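import Mathlib
import Cfsg.Agent.Lib.Chars.Ops
import Cfsg.Agent.Lib.Clifford.Restriction

/-!
# Gallagher's theorem

If an irreducible character `χ` of `G` restricts irreducibly to the normal subgroup `N`, the
irreducible characters over that restriction are the products with characters of `G ⧸ N`.
-/

set_option autoImplicit false

namespace Cfsg.Agent.Lib.Clifford

open scoped ComplexConjugate
open Cfsg.Agent.Lib

variable {G : Type*} [Group G] [Fintype G]

theorem classInner_self_ne_zero {f : G → ℂ} (hf : Cfsg.IsCharacter G f) (h1 : f 1 ≠ 0) :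
    Cfsg.classInner f f ≠ 0 := by
  intro h0
  apply h1
  obtain ⟨m, rfl⟩ := Chars.isCharacter_exists_nat_decomp hf
  rw [Chars.classInner_sum_smul_sum_smul] at h0
  simp only [Complex.conj_natCast] at h0
  have h2 : ∑ χ : Cfsg.IrrCharacter G, m χ * m χ = 0 := by exact_mod_cast h0
  have hm : ∀ χ, m χ = 0 := fun χ =>
    (mul_self_eq_zero).mp ((Finset.sum_eq_zero_iff.mp h2) χ (Finset.mem_univ _))
  simp [hm]

/-- If a combination of characters with positive coefficients has norm the sum of squares of the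
coefficients, then these characters are irreducible and distinct and are all its constituents. -/
theorem irreducible_of_norm_eq {ι : Type*} [Fintype ι] (e : ι → ℕ) (f : ι → G → ℂ)
    (he : ∀ i, e i ≠ 0) (hf : ∀ i, Cfsg.IsCharacter G (f i)) (hf1 : ∀ i, f i 1 ≠ 0) {F : G → ℂ}
    (hF : F = ∑ i, (e i : ℂ) • f i)
    (hnorm : Cfsg.classInner F F = ∑ i, (e i : ℂ) * e i) :
    (∀ i, Cfsg.IsIrrCharacter G (f i)) ∧ Function.Injective f ∧
      (∀ i, Cfsg.classInner F (f i) = e i) ∧
      ∀ ψ, Cfsg.IsIrrCharacter G ψ → Cfsg.classInner F ψ ≠ 0 → ∃ i, f i = ψ := by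
  classical
  have hc : ∀ i j, ∃ k : ℕ, Cfsg.classInner (f i) (f j) = k := fun i j =>
    Chars.isCharacter_classInner_nat (hf i) (hf j)
  choose c hc using hc
  have hpair : ∀ j, Cfsg.classInner F (f j) = ((∑ i, e i * c i j : ℕ) : ℂ) := fun j => by
    rw [hF, Chars.classInner_sum_left]
    simp [Chars.classInner_smul_left, hc]
  have hsum : ∑ j, e j * ∑ i, e i * c i j = ∑ j, e j * e j := by
    have h : ((∑ j, e j * ∑ i, e i * c i j : ℕ) : ℂ) = ((∑ j, e j * e j : ℕ) : ℂ) := by
      push_cast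
      rw [← hnorm]
      conv_rhs => arg 2; rw [hF]
      rw [Chars.classInner_sum_right]
      refine Finset.sum_congr rfl fun j _ => ?_
      rw [Chars.classInner_smul_right, hpair j, Complex.conj_natCast]
      push_cast
      rfl
    exact_mod_cast h
  have hdiag : ∀ i, 1 ≤ c i i := fun i => Nat.one_le_iff_ne_zero.mpr fun h0 =>
    classInner_self_ne_zero (hf i) (hf1 i) (by rw [hc, h0, Nat.cast_zero])
  have hlow : ∀ j, e j ≤ ∑ i, e i * c i j := fun j =>
    le_trans (Nat.le_mul_of_pos_right _ (hdiag j))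
      (Finset.single_le_sum (f := fun i => e i * c i j) (fun _ _ => Nat.zero_le _)
        (Finset.mem_univ j))
  have heq : ∀ j, ∑ i, e i * c i j = e j := by
    intro j
    have := (Finset.sum_eq_sum_iff_of_le fun j _ => Nat.mul_le_mul_left (e j) (hlow j)).mp
      hsum.symm j (Finset.mem_univ j)
    exact (Nat.eq_of_mul_eq_mul_left (Nat.pos_of_ne_zero (he j)) this).symm
  have hone : ∀ i, c i i = 1 := fun i => by
    have h1 := Finset.single_le_sum (f := fun k => e k * c k i) (fun _ _ => Nat.zero_le _)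
      (Finset.mem_univ i)
    rw [heq i] at h1
    exact le_antisymm (Nat.le_of_mul_le_mul_left (h1.trans (mul_one _).symm.le)
      (Nat.pos_of_ne_zero (he i))) (hdiag i)
  have hzero : ∀ i j, i ≠ j → c i j = 0 := fun i j hij => by
    have h1 := Finset.add_le_sum (f := fun k => e k * c k j) (fun _ _ => Nat.zero_le _)
      (Finset.mem_univ i) (Finset.mem_univ j) hij
    rw [heq j, hone j, mul_one] at h1
    exact (Nat.mul_eq_zero.mp (show e i * c i j = 0 by omega)).resolve_left (he i)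
  have hirr : ∀ i, Cfsg.IsIrrCharacter G (f i) := fun i =>
    (Chars.isIrrCharacter_iff_classInner_eq_one (hf i)).mpr (by rw [hc, hone, Nat.cast_one])
  refine ⟨hirr, fun i j h => ?_, fun j => by rw [hpair, heq], fun ψ hψ h0 => ?_⟩
  · by_contra hij
    have := hzero i j hij
    have h' := hc i j
    rw [h, hc, hone, this] at h'
    norm_num at h'
  · by_contra hne
    push Not at hne
    apply h0
    rw [hF, Chars.classInner_sum_left, Finset.sum_eq_zero]
    intro i _
    rw [Chars.classInner_smul_left,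
      Chars.classInner_irr_of_ne (χ := ⟨f i, hirr i⟩) (ψ := ⟨ψ, hψ⟩)
        (fun h => hne i (Subtype.ext_iff.mp h)), mul_zero]

variable {N : Subgroup G} [hN : N.Normal]

omit hN in
theorem indFun_resFun_mul (χ : G → ℂ) (hχ : Cfsg.IsClassFunction G χ) (φ : N → ℂ) :
    Cfsg.indFun N (fun n => φ n * χ n) = fun g => Cfsg.indFun N φ g * χ g := by
  funext g
  simp only [Cfsg.indFun, mul_assoc (Nat.card N : ℂ)⁻¹, Finset.sum_mul]
  congr 1
  refine Finset.sum_congr rfl fun x _ => ?_
  by_cases hx : x⁻¹ * g * x ∈ N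
  · rw [Chars.extendByZero_of_mem _ hx, Chars.extendByZero_of_mem _ hx]
    congr 1
    have := hχ g x⁻¹
    rw [inv_inv] at this
    exact this
  · rw [Chars.extendByZero_of_not_mem _ hx, Chars.extendByZero_of_not_mem _ hx, zero_mul]

/-- The norm of the function induced from an invariant irreducible character. -/
theorem classInner_indFun_invariant [Fintype N] {θ : N → ℂ} (hθ : Cfsg.IsIrrCharacter N θ)
    (hinv : ∀ g : G, conjFun g θ = θ) :
    Cfsg.classInner (Cfsg.indFun N θ) (Cfsg.indFun N θ) = N.index := by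
  rw [Chars.classInner_indFun_right N θ _ (Chars.isClassFunction_indFun N θ)]
  show Cfsg.classInner (resFun N (Cfsg.indFun N θ)) θ = _
  rw [resFun_indFun, Finset.sum_congr rfl fun x _ => hinv x, Finset.sum_const, Finset.card_univ,
    Fintype.card_eq_nat_card, ← Nat.cast_smul_eq_nsmul ℂ, smul_smul,
    Chars.classInner_smul_left, Chars.classInner_irr_self ⟨θ, hθ⟩, mul_one, ← N.card_mul_index,
    Nat.cast_mul, inv_mul_cancel_left₀ (Nat.cast_ne_zero.mpr Nat.card_pos.ne')]

/-- Multiplication of the constituents of `φ^G` by an extension of `ϑ`. -/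
theorem gallagher_bijOn [Fintype N] {φ : N → ℂ} (hφ : Cfsg.IsIrrCharacter N φ)
    (hφinv : ∀ g : G, conjFun g φ = φ) {χ : G → ℂ} (hχ : Cfsg.IsIrrCharacter G χ)
    (hprod : Cfsg.IsIrrCharacter N (φ * resFun N χ)) :
    Set.BijOn (fun β : G → ℂ => β * χ)
      {β : G → ℂ | Cfsg.IsIrrCharacter G β ∧ Cfsg.classInner (Cfsg.indFun N φ) β ≠ 0}
      {ψ : G → ℂ | Cfsg.IsIrrCharacter G ψ ∧
        Cfsg.classInner (Cfsg.indFun N (φ * resFun N χ)) ψ ≠ 0} := by
  classical
  have hχc := Chars.isCharacter_of_isIrrCharacter hχ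
  have hχcl := Chars.isClassFunction_of_isCharacter hχc
  obtain ⟨e, he⟩ := Chars.isCharacter_exists_nat_decomp
    (Chars.isCharacter_indFun N (Chars.isCharacter_of_isIrrCharacter hφ))
  have heq : ∀ β : Cfsg.IrrCharacter G, Cfsg.classInner (Cfsg.indFun N φ) (β : G → ℂ) = e β :=
    fun β => by rw [he, Chars.classInner_sum_smul_irr]
  let ι := {β : Cfsg.IrrCharacter G // e β ≠ 0}
  have hsum : Cfsg.indFun N φ = ∑ i : ι, (e i.1 : ℂ) • ((i.1 : Cfsg.IrrCharacter G) : G → ℂ) := by
    rw [he]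
    symm
    rw [← Finset.sum_subtype (Finset.univ.filter fun β => e β ≠ 0) (by simp)
      (fun β : Cfsg.IrrCharacter G => (e β : ℂ) • (β : G → ℂ))]
    refine Finset.sum_filter_of_ne fun β _ h => ?_
    intro h0
    exact h (by simp [h0])
  have hprodinv : ∀ g : G, conjFun g (φ * resFun N χ) = φ * resFun N χ := fun g => by
    funext n
    show conjFun g φ n * conjFun g (resFun N χ) n = φ n * resFun N χ n
    rw [hφinv, conjFun_resFun g hχcl]
  have hF : Cfsg.indFun N (φ * resFun N χ)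
      = ∑ i : ι, (e i.1 : ℂ) • ((i.1 : G → ℂ) * χ) := by
    rw [show (φ * resFun N χ) = fun n => φ n * χ n from rfl, indFun_resFun_mul χ hχcl φ, hsum]
    funext g
    simp [Finset.sum_mul, mul_assoc]
  have hnorm : Cfsg.classInner (Cfsg.indFun N (φ * resFun N χ))
      (Cfsg.indFun N (φ * resFun N χ)) = ∑ i : ι, (e i.1 : ℂ) * e i.1 := by
    rw [classInner_indFun_invariant hprod hprodinv, ← classInner_indFun_invariant hφ hφinv]
    conv_lhs => arg 2; rw [hsum]
    rw [Chars.classInner_sum_right]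
    refine Finset.sum_congr rfl fun i _ => ?_
    rw [Chars.classInner_smul_right, Complex.conj_natCast, heq]
  obtain ⟨hirr, hinj, hval, hall⟩ := irreducible_of_norm_eq (fun i : ι => e i.1)
    (fun i : ι => (i.1 : G → ℂ) * χ) (fun i => i.2)
    (fun i => Chars.isCharacter_mul (Chars.irr_isCharacter i.1) hχc)
    (fun i => mul_ne_zero (Chars.irr_apply_one_ne_zero i.1)
      (Chars.irr_apply_one_ne_zero ⟨χ, hχ⟩)) hF hnorm
  refine ⟨?_, ?_, ?_⟩
  · rintro β ⟨hβ, h0⟩
    have h1 : e ⟨β, hβ⟩ ≠ 0 := fun h => h0 (by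
      rw [show β = ((⟨β, hβ⟩ : Cfsg.IrrCharacter G) : G → ℂ) from rfl, heq, h, Nat.cast_zero])
    refine ⟨hirr ⟨_, h1⟩, ?_⟩
    show Cfsg.classInner _ (((⟨β, hβ⟩ : Cfsg.IrrCharacter G) : G → ℂ) * χ) ≠ 0
    rw [hval ⟨_, h1⟩, Nat.cast_ne_zero]
    exact h1
  · rintro β ⟨hβ, h0⟩ β' ⟨hβ', h0'⟩ h
    have key : ∀ (γ : G → ℂ) (hγ : Cfsg.IsIrrCharacter G γ),
        Cfsg.classInner (Cfsg.indFun N φ) γ ≠ 0 → e ⟨γ, hγ⟩ ≠ 0 := fun γ hγ h0 h =>
      h0 (by rw [show γ = ((⟨γ, hγ⟩ : Cfsg.IrrCharacter G) : G → ℂ) from rfl, heq, h,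
        Nat.cast_zero])
    have := hinj (a₁ := ⟨_, key β hβ h0⟩) (a₂ := ⟨_, key β' hβ' h0'⟩) h
    exact Subtype.ext_iff.mp (Subtype.ext_iff.mp this)
  · rintro ψ ⟨hψ, h0⟩
    obtain ⟨i, hi⟩ := hall ψ hψ h0
    exact ⟨(i.1 : G → ℂ), ⟨i.1.2, by rw [heq, Nat.cast_ne_zero]; exact i.2⟩, hi⟩

omit [Fintype G] in
/-- The inflation of a character of the quotient is constant `β 1` on `N`. -/
theorem inflate_apply_mem [Finite G] (β : Cfsg.IrrCharacter (G ⧸ N)) (n : N) :
    (Chars.inflate N β : G → ℂ) n = (β : G ⧸ N → ℂ) 1 := by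
  show (β : G ⧸ N → ℂ) ((n : G) : G ⧸ N) = _
  rw [(QuotientGroup.eq_one_iff (n : G)).mpr n.2]

theorem indFun_one_eq_sum :
    Cfsg.indFun N (fun _ => (1 : ℂ))
      = ∑ β : Cfsg.IrrCharacter (G ⧸ N), (β : G ⧸ N → ℂ) 1 • (Chars.inflate N β : G → ℂ) := by
  classical
  have := Fintype.ofFinite (G ⧸ N)
  funext g
  simp only [Finset.sum_apply, Pi.smul_apply, smul_eq_mul]
  show _ = ∑ β : Cfsg.IrrCharacter (G ⧸ N), (β : G ⧸ N → ℂ) 1 * (β : G ⧸ N → ℂ) (g : G ⧸ N)
  rw [Chars.sum_degree_mul_irr, Cfsg.indFun]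
  by_cases hg : g ∈ N
  · rw [if_pos ((QuotientGroup.eq_one_iff g).mpr hg),
      Finset.sum_congr rfl fun x _ => Chars.extendByZero_of_mem _
        (by simpa using hN.conj_mem g hg x⁻¹ : x⁻¹ * g * x ∈ N),
      Finset.sum_const, Finset.card_univ, nsmul_one, Fintype.card_eq_nat_card,
      ← Subgroup.index, ← N.card_mul_index, Nat.cast_mul,
      inv_mul_cancel_left₀ (Nat.cast_ne_zero.mpr Nat.card_pos.ne')]
  · rw [if_neg (mt (QuotientGroup.eq_one_iff g).mp hg), Finset.sum_eq_zero, mul_zero]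
    intro x _
    refine Chars.extendByZero_of_not_mem _ fun h => hg ?_
    simpa [mul_assoc] using hN.conj_mem _ h x

/-- Gallagher's theorem. -/
theorem gallagher [Fintype N] {χ : G → ℂ} (hχ : Cfsg.IsIrrCharacter G χ)
    (hχN : Cfsg.IsIrrCharacter N (resFun N χ)) :
    (∀ β : Cfsg.IrrCharacter (G ⧸ N),
      Cfsg.IsIrrCharacter G (χ * (Chars.inflate N β : G → ℂ))) ∧
    Function.Injective (fun β : Cfsg.IrrCharacter (G ⧸ N) => χ * (Chars.inflate N β : G → ℂ)) ∧
    ∀ ψ, Cfsg.IsIrrCharacter G ψ → (Cfsg.classInner (resFun N ψ) (resFun N χ) ≠ 0 ↔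
      ∃ β : Cfsg.IrrCharacter (G ⧸ N), ψ = χ * (Chars.inflate N β : G → ℂ)) := by
  classical
  have := Fintype.ofFinite (G ⧸ N)
  have hχc := Chars.isCharacter_of_isIrrCharacter hχ
  have hcl := Chars.isClassFunction_of_isCharacter hχc
  choose b hb0 hb using fun β : Cfsg.IrrCharacter (G ⧸ N) =>
    Chars.isIrrCharacter_exists_degree_pos β.2
  have hF : Cfsg.indFun N (resFun N χ) = ∑ β, (b β : ℂ) • (χ * (Chars.inflate N β : G → ℂ)) := by
    have h := indFun_resFun_mul χ hcl (fun _ : N => (1 : ℂ))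
    simp only [one_mul] at h
    rw [show resFun N χ = fun n : N => χ n from rfl, h, indFun_one_eq_sum]
    funext g
    simp only [Finset.sum_apply, Pi.smul_apply, Pi.mul_apply, smul_eq_mul, hb, Finset.sum_mul]
    exact Finset.sum_congr rfl fun β _ => by ring
  have hinv : ∀ g : G, conjFun g (resFun N χ) = resFun N χ := fun g => conjFun_resFun g hcl
  have hnorm : Cfsg.classInner (Cfsg.indFun N (resFun N χ)) (Cfsg.indFun N (resFun N χ))
      = ∑ β, (b β : ℂ) * b β := by
    rw [classInner_indFun_invariant hχN hinv, Subgroup.index, ← Chars.sum_degree_sq]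
    simp [hb, sq]
  obtain ⟨hirr, hinj, hval, hall⟩ := irreducible_of_norm_eq b
    (fun β => χ * (Chars.inflate N β : G → ℂ)) (fun β => (hb0 β).ne')
    (fun β => Chars.isCharacter_mul hχc (Chars.irr_isCharacter _))
    (fun β => mul_ne_zero (Chars.irr_apply_one_ne_zero ⟨χ, hχ⟩)
      (Chars.irr_apply_one_ne_zero _)) hF hnorm
  refine ⟨hirr, hinj, fun ψ hψ => ?_⟩
  have hrec : Cfsg.classInner (Cfsg.indFun N (resFun N χ)) ψ
      = conj (Cfsg.classInner (resFun N ψ) (resFun N χ)) := by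
    rw [Chars.conj_classInner, Chars.classInner_indFun_left N _ ψ
      (Chars.irr_isClassFunction ⟨ψ, hψ⟩)]
    rfl
  constructor
  · intro h
    obtain ⟨β, hβ⟩ := hall ψ hψ (by rw [hrec]; simpa using h)
    exact ⟨β, hβ.symm⟩
  · rintro ⟨β, rfl⟩ h
    have := hval β
    rw [hrec, h, map_zero] at this
    exact (hb0 β).ne' (by exact_mod_cast this.symm)

theorem classInner_cosetAvg (γ : G → ℂ) (β : Cfsg.IrrCharacter (G ⧸ N)) [Fintype N] :
    Cfsg.classInner (fun g => (Nat.card N : ℂ)⁻¹ * ∑ n : N, γ ((n : G) * g))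
      (Chars.inflate N β : G → ℂ) = Cfsg.classInner γ (Chars.inflate N β : G → ℂ) := by
  simp only [Cfsg.classInner, mul_assoc, ← Finset.mul_sum]
  congr 1
  simp only [Finset.sum_mul]
  rw [Finset.sum_comm, Finset.sum_congr rfl (g := fun _ => ∑ g : G, γ g *
    conj ((Chars.inflate N β : G → ℂ) g)), Finset.sum_const, Finset.card_univ, nsmul_eq_mul,
    Fintype.card_eq_nat_card, inv_mul_cancel_left₀ (Nat.cast_ne_zero.mpr Nat.card_pos.ne')]
  intro n _
  refine Fintype.sum_equiv (Equiv.mulLeft (n : G)) _ _ fun g => ?_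
  simp only [Equiv.coe_mulLeft]
  congr 2
  show (β : G ⧸ N → ℂ) (g : G ⧸ N) = (β : G ⧸ N → ℂ) (((n : G) * g : G) : G ⧸ N)
  rw [QuotientGroup.mk_mul, (QuotientGroup.eq_one_iff (n : G)).mpr n.2, one_mul]

/-- The coset average of a class function is a combination of inflated characters. -/
theorem cosetAvg_eq_sum [Fintype N] {γ : G → ℂ} (hγ : Cfsg.IsClassFunction G γ) :
    (fun g => (Nat.card N : ℂ)⁻¹ * ∑ n : N, γ ((n : G) * g))
      = ∑ β : Cfsg.IrrCharacter (G ⧸ N),
          Cfsg.classInner γ (Chars.inflate N β : G → ℂ) • (Chars.inflate N β : G → ℂ) := by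
  classical
  have := Fintype.ofFinite (G ⧸ N)
  set A : G → ℂ := fun g => (Nat.card N : ℂ)⁻¹ * ∑ n : N, γ ((n : G) * g)
  have hcoset : ∀ g (m : N), A (g * m) = A g := by
    intro g m
    simp only [A]
    congr 1
    let m' : N := ⟨g * m * g⁻¹, hN.conj_mem (m : G) m.2 g⟩
    refine Fintype.sum_equiv (Equiv.mulRight m') _ _ fun n => ?_
    simp [m', mul_assoc]
  have hconj : ∀ g k, A (k * g * k⁻¹) = A g := by
    intro g k
    simp only [A]
    congr 1
    refine Fintype.sum_equiv (MulAut.conjNormal k⁻¹ : MulAut N).toEquiv _ _ fun n => ?_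
    simp only [MulEquiv.toEquiv_eq_coe, EquivLike.coe_coe, MulAut.conjNormal_apply]
    rw [← hγ (k⁻¹ * (n : G) * k⁻¹⁻¹ * g) k]
    congr 1
    simp [mul_assoc]
  let B : G ⧸ N → ℂ := fun q => A q.out
  have hB : ∀ g : G, B g = A g := fun g => by
    obtain ⟨m, hm⟩ := QuotientGroup.mk_out_eq_mul N g
    simp only [B, hm, hcoset]
  have hBcl : Cfsg.IsClassFunction (G ⧸ N) B := by
    intro p q
    induction p using QuotientGroup.induction_on with | H g =>
    induction q using QuotientGroup.induction_on with | H k =>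
    rw [← QuotientGroup.mk_mul, ← QuotientGroup.mk_inv, ← QuotientGroup.mk_mul, hB, hB, hconj]
  funext g
  rw [← hB, Chars.isClassFunction_apply_eq_sum_classInner hBcl, Finset.sum_apply]
  refine Finset.sum_congr rfl fun β _ => ?_
  simp only [Pi.smul_apply, smul_eq_mul]
  congr 1
  rw [← classInner_cosetAvg, ← Chars.classInner_comp_of_surjective (QuotientGroup.mk' N)
    (QuotientGroup.mk'_surjective N)]
  congr 1
  funext x
  exact hB x

end Cfsg.Agent.Lib.Clifford
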