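import Mathlib
import Cfsg.Agent.Lib.Chars.Ops
import Cfsg.Agent.Lib.Clifford.Correspondence

/-!
# Going down across an abelian chief factor
-/

set_option autoImplicit false

namespace Cfsg.Agent.Lib.Clifford

open scoped ComplexConjugate
open Cfsg.Agent.Lib

section InGroup

variable {K : Type*} [Group K] [Fintype K] {M : Subgroup K} [hM : M.Normal] [Fintype M]

omit hM in
/-- A character vanishing off a normal subgroup: the square of the multiplicity. -/
theorem sq_eq_index_of_vanishing {θ : K → ℂ} (hθ : Cfsg.IsIrrCharacter K θ) {φ : M → ℂ}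
    (hφ : Cfsg.IsIrrCharacter M φ) {e : ℕ} (hres : resFun M θ = (e : ℂ) • φ)
    (hvan : ∀ k : K, k ∉ M → θ k = 0) : e ^ 2 = M.index := by
  classical
  have h1 := Chars.classInner_irr_self ⟨θ, hθ⟩
  have hext : θ = Cfsg.extendByZero M (resFun M θ) := by
    funext k
    by_cases hk : k ∈ M
    · rw [Chars.extendByZero_of_mem _ hk]; rfl
    · rw [Chars.extendByZero_of_not_mem _ hk, hvan k hk]
  have hsum : ∑ k : K, θ k * conj (θ k) = ∑ m : M, θ m * conj (θ m) := by
    conv_lhs => arg 2; ext k; arg 1; rw [hext]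
    exact Chars.sum_extendByZero_mul M (resFun M θ) fun k => conj (θ k)
  have h2 : Cfsg.classInner (resFun M θ) (resFun M θ) = (e : ℂ) ^ 2 := by
    rw [hres, Chars.classInner_smul_left, Chars.classInner_smul_right,
      Chars.classInner_irr_self ⟨φ, hφ⟩, Complex.conj_natCast, mul_one, sq]
  change (Nat.card K : ℂ)⁻¹ * ∑ k : K, θ k * conj (θ k) = 1 at h1
  change (Nat.card M : ℂ)⁻¹ * ∑ m : M, θ m * conj (θ m) = (e : ℂ) ^ 2 at h2
  rw [hsum, ← M.card_mul_index, Nat.cast_mul, mul_inv, mul_right_comm, h2,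
    mul_inv_eq_one₀ (Nat.cast_ne_zero.mpr Subgroup.FiniteIndex.index_ne_zero)] at h1
  exact_mod_cast h1

/-- If no nontrivial linear character of `K ⧸ M` fixes `θ`, its restriction is irreducible. -/
theorem restrict_irreducible_of_twists (hKM : commutator K ≤ M) {θ : K → ℂ}
    (hθ : Cfsg.IsIrrCharacter K θ) {φ : M → ℂ} (hφ : Cfsg.IsIrrCharacter M φ) {e : ℕ} (he : e ≠ 0)
    (hres : resFun M θ = (e : ℂ) • φ)
    (htw : ∀ lam : K ⧸ M →* ℂˣ, (∀ k : K, (lam k : ℂ) * θ k = θ k) → lam = 1) : e = 1 := by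
  classical
  have : Finite (K ⧸ M →* ℂˣ) := Finite.of_injective _ Chars.linIrr_injective
  have := Fintype.ofFinite (K ⧸ M →* ℂˣ)
  have hcard : Nat.card (K ⧸ M →* ℂˣ) = M.index := by
    rw [Chars.card_monoidHom_units]
    have : commutator (K ⧸ M) = ⊥ := by
      rw [eq_bot_iff, commutator_def, ← Subgroup.map_top_of_surjective (QuotientGroup.mk' M)
        (QuotientGroup.mk'_surjective M), ← Subgroup.map_commutator, ← commutator_def]
      rw [Subgroup.map_le_iff_le_comap]
      intro x hx
      rw [Subgroup.mem_comap, Subgroup.mem_bot]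
      exact (QuotientGroup.eq_one_iff x).mpr (hKM hx)
    rw [this, Subgroup.index_bot]
    rfl
  let tw : (K ⧸ M →* ℂˣ) → Cfsg.IrrCharacter K := fun lam =>
    ⟨_, Chars.isIrrCharacter_hom_mul (lam.comp (QuotientGroup.mk' M)) hθ⟩
  have hinj : Function.Injective tw := by
    intro a b h
    rw [← div_eq_one]
    refine htw _ fun k => ?_
    have := congrFun (congrArg Subtype.val h) k
    simp only [tw, MonoidHom.comp_apply, QuotientGroup.mk'_apply] at this
    rw [MonoidHom.div_apply, Units.val_div_eq_div_val, div_mul_eq_mul_div, this,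
      mul_div_cancel_left₀ _ (Units.ne_zero _)]
  let F := Cfsg.indFun M φ
  have hFcl := Chars.isClassFunction_indFun M φ
  have hval : ∀ lam, Cfsg.classInner F ((tw lam : Cfsg.IrrCharacter K) : K → ℂ) = e := by
    intro lam
    rw [Chars.classInner_indFun_left M φ _ (Chars.irr_isClassFunction _)]
    have : (fun m : M => ((tw lam : Cfsg.IrrCharacter K) : K → ℂ) m) = resFun M θ := by
      funext m
      show ((lam ((m : K) : K ⧸ M)) : ℂ) * θ m = θ m
      rw [(QuotientGroup.eq_one_iff (m : K)).mpr m.2, map_one, Units.val_one, one_mul]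
    rw [this, hres, Chars.classInner_smul_right, Chars.classInner_irr_self ⟨φ, hφ⟩,
      Complex.conj_natCast, mul_one]
  have hinv : ∀ k : K, conjFun k φ = φ := by
    intro k
    funext m
    have h := congrFun (conjFun_resFun (N := M) k (Chars.irr_isClassFunction ⟨θ, hθ⟩)) m
    simp only [conjFun, hres, Pi.smul_apply, smul_eq_mul] at h
    exact mul_left_cancel₀ (Nat.cast_ne_zero.mpr he) h
  obtain ⟨n, hn⟩ := Chars.isCharacter_exists_nat_decomp
    (Chars.isCharacter_indFun M (Chars.isCharacter_of_isIrrCharacter hφ))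
  have hnorm : M.index = ∑ χ, n χ * n χ := by
    have h : Cfsg.classInner F F = M.index := by
      rw [Chars.classInner_indFun_right M φ _ hFcl]
      show Cfsg.classInner (resFun M F) φ = _
      rw [resFun_indFun, Finset.sum_congr rfl fun x _ => hinv x, Finset.sum_const, Finset.card_univ,
        Fintype.card_eq_nat_card, ← Nat.cast_smul_eq_nsmul ℂ, smul_smul,
        Chars.classInner_smul_left, Chars.classInner_irr_self ⟨φ, hφ⟩, mul_one, ← M.card_mul_index,
        Nat.cast_mul, inv_mul_cancel_left₀ (Nat.cast_ne_zero.mpr Nat.card_pos.ne')]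
    simp only [F, hn, Chars.classInner_sum_smul_sum_smul, Complex.conj_natCast] at h
    exact_mod_cast h.symm
  have hn' : ∀ lam, n (tw lam) = e := fun lam => by
    have := hval lam
    simp only [F, hn, Chars.classInner_sum_smul_irr] at this
    exact_mod_cast this
  have hle : ∑ lam : K ⧸ M →* ℂˣ, n (tw lam) * n (tw lam) ≤ ∑ χ, n χ * n χ := by
    rw [← Finset.sum_image (f := fun χ => n χ * n χ) (s := Finset.univ) hinj.injOn]
    exact Finset.sum_le_sum_of_subset (Finset.subset_univ _)
  simp only [hn', Finset.sum_const, Finset.card_univ, smul_eq_mul, Fintype.card_eq_nat_card,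
    hcard, ← hnorm] at hle
  have hpos : 0 < M.index := Nat.pos_of_ne_zero Subgroup.FiniteIndex.index_ne_zero
  have : e * e ≤ 1 := Nat.le_of_mul_le_mul_left (by simpa using hle) hpos
  nlinarith [Nat.pos_of_ne_zero he]

end InGroup

variable {G : Type*} [Group G] [Fintype G]

/-- Going down across an abelian chief factor. -/
theorem going_down (K L : Subgroup G) [hK : K.Normal] [hL : L.Normal] (hLK : L < K)
    (hchief : ∀ M : Subgroup G, M.Normal → L ≤ M → M ≤ K → M = L ∨ M = K) (hab : ⁅K, K⁆ ≤ L)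
    {θ : K → ℂ} (hθ : Cfsg.IsIrrCharacter K θ) (hinv : ∀ g : G, conjFun g θ = θ) :
    Cfsg.IsIrrCharacter L (resTo hLK.le θ) ∨
      (∃ (φ : L → ℂ) (e : ℕ), Cfsg.IsIrrCharacter L φ ∧ resTo hLK.le θ = (e : ℂ) • φ ∧
        e ^ 2 = L.relIndex K) ∨
      (∃ F : Finset (L → ℂ), (∀ φ ∈ F, Cfsg.IsIrrCharacter L φ) ∧ F.card = L.relIndex K ∧
        resTo hLK.le θ = ∑ φ ∈ F, φ) := by
  classical
  let M : Subgroup K := L.subgroupOf K
  have := Fintype.ofFinite K
  have := Fintype.ofFinite L
  have := Fintype.ofFinite M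
  let ε : M ≃* L := Subgroup.subgroupOfEquivOfLe hLK.le
  have hθc := Chars.isCharacter_of_isIrrCharacter hθ
  have hcl := Chars.isClassFunction_of_isCharacter hθc
  obtain ⟨m, hm⟩ := Chars.isCharacter_exists_nat_decomp (Chars.isCharacter_restrict M hθc)
  obtain ⟨φ', hφ'⟩ : ∃ φ', m φ' ≠ 0 := by
    by_contra h
    push Not at h
    have := congrFun hm 1
    simp [h] at this
    exact Chars.irr_apply_one_ne_zero ⟨θ, hθ⟩ this
  have hcon : Cfsg.classInner (resFun M θ) (φ' : M → ℂ) = m φ' := by
    show Cfsg.classInner (fun x : M => θ x) _ = _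
    rw [hm, Chars.classInner_sum_smul_irr]
  have hcon0 : Cfsg.classInner (resFun M θ) (φ' : M → ℂ) ≠ 0 := by
    rw [hcon, Nat.cast_ne_zero]; exact hφ'
  let φ : L → ℂ := fun x => (φ' : M → ℂ) (ε.symm x)
  have hφ : Cfsg.IsIrrCharacter L φ := isIrrCharacter_comp_equiv ε.symm φ'.2
  have hφε : ∀ x : M, φ (ε x) = (φ' : M → ℂ) x := fun x => by simp [φ]
  -- conjugation inside `K` seen in `G`
  have hconjK : ∀ k : K, ∀ x : M, conjFun k (φ' : M → ℂ) x = conjFun (k : G) φ (ε x) := fun k x => by
    simp only [conjFun, φ]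
    congr 1
  -- every conjugate of `φ` is conjugate under `K`
  have horb : ∀ g : G, ∃ k : K, conjFun g φ = conjFun (k : G) φ := by
    intro g
    let ψ : M → ℂ := fun x => conjFun g φ (ε x)
    have hψ : Cfsg.IsIrrCharacter M ψ := isIrrCharacter_comp_equiv ε (isIrrCharacter_conjFun g hφ)
    have hψcon : Cfsg.classInner (resFun M θ) ψ ≠ 0 := by
      have h1 : resFun M θ = fun x => conjFun g (resTo hLK.le θ) (ε x) := by
        funext x
        exact (congrFun (hinv g) (x : K)).symm
      rw [h1, classInner_comp_equiv ε, classInner_conjFun, ← classInner_comp_equiv ε]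
      simp only [hφε]
      exact hcon0
    obtain ⟨k, hk⟩ := exists_conjFun_eq_of_constituent hθ φ'.2 hψ hcon0 hψcon
    refine ⟨k, funext fun y => ?_⟩
    have := congrFun hk (ε.symm y)
    rw [hconjK] at this
    simpa [ψ] using this.symm
  let J : Subgroup G :=
    { carrier := {g | g ∈ K ∧ conjFun g φ = φ}
      one_mem' := ⟨K.one_mem, conjFun_one φ⟩
      mul_mem' := fun {a b} ha hb => ⟨K.mul_mem ha.1 hb.1, by rw [conjFun_mul, ha.2, hb.2]⟩
      inv_mem' := fun {a} ha => ⟨K.inv_mem ha.1, by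
        conv_lhs => rw [← ha.2]
        rw [← conjFun_mul, mul_inv_cancel, conjFun_one]⟩ }
  have hfixL : ∀ l ∈ L, conjFun l φ = φ := fun l hl => funext fun n =>
    Chars.irr_isClassFunction ⟨φ, hφ⟩ n ⟨l, hl⟩
  have hJn : J.Normal := by
    refine ⟨fun j hj g => ⟨hK.conj_mem j hj.1 g, ?_⟩⟩
    obtain ⟨k, hk⟩ := horb g
    set t := g * (k : G)⁻¹ with ht
    have htfix : conjFun t φ = φ := by
      rw [ht, conjFun_mul, hk, ← conjFun_mul, mul_inv_cancel, conjFun_one]
    have htfix' : conjFun t⁻¹ φ = φ := by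
      conv_lhs => rw [← htfix]
      rw [← conjFun_mul, mul_inv_cancel, conjFun_one]
    have hl : (k : G) * j * (k : G)⁻¹ * j⁻¹ ∈ L := hab (Subgroup.commutator_mem_commutator k.2 hj.1)
    have : g * j * g⁻¹ = t * (((k : G) * j * (k : G)⁻¹ * j⁻¹) * j) * t⁻¹ := by
      simp [ht, mul_assoc]
    rw [this, conjFun_mul, conjFun_mul, conjFun_mul, htfix, hfixL _ hl, hj.2, htfix']
  rcases hchief J hJn (fun l hl => ⟨hLK.le hl, hfixL l hl⟩) (fun g hg => hg.1) with hJ | hJ
  · -- fully ramified orbit
    refine Or.inr (Or.inr ?_)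
    have hiff : ∀ k : K, k ∈ M ↔ conjFun k (φ' : M → ℂ) = (φ' : M → ℂ) := by
      intro k
      rw [Subgroup.mem_subgroupOf]
      refine Iff.trans (SetLike.ext_iff.mp hJ _).symm ?_
      constructor
      · rintro ⟨-, h⟩
        funext x
        rw [hconjK, h, hφε]
      · intro h
        refine ⟨k.2, funext fun y => ?_⟩
        have := congrFun h (ε.symm y)
        rw [hconjK] at this
        simpa [φ] using this
    have hinnM : Cfsg.classInner (resTo (le_refl M) (φ' : M → ℂ)) (φ' : M → ℂ) = 1 :=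
      Chars.classInner_irr_self φ'
    have he : m φ' = 1 := by
      obtain ⟨-, h, -⟩ := clifford_induced φ'.2 hiff le_rfl hθ φ'.2 hcon0
        (by rw [hinnM]; exact one_ne_zero)
      rw [hinnM, hcon] at h
      exact_mod_cast h.symm
    have hsum := sum_resFun_eq_orbit hθ φ'.2 hcon0
    rw [hcon, he, Nat.cast_one, one_smul] at hsum
    refine ⟨(orbitFun (φ' : M → ℂ)).image fun ψ => fun x : L => ψ (ε.symm x), ?_, ?_, ?_⟩
    · intro ψ hψ
      obtain ⟨ψ₀, h0, rfl⟩ := Finset.mem_image.mp hψ
      obtain ⟨k, rfl⟩ := mem_orbitFun.mp h0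
      exact isIrrCharacter_comp_equiv ε.symm (isIrrCharacter_conjFun k φ'.2)
    · rw [Finset.card_image_of_injective _ fun a b h => funext fun x => by
        simpa using congrFun h (ε x), card_orbitFun M hiff]
      rfl
    · rw [Finset.sum_image fun a _ b _ h => funext fun x => by simpa using congrFun h (ε x)]
      funext x
      have := congrFun hsum (ε.symm x)
      simp only [Finset.sum_apply] at this ⊢
      rw [← this]
      rfl
  · have hfix : ∀ k : K, conjFun k (φ' : M → ℂ) = (φ' : M → ℂ) := fun k => funext fun x => by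
      have : (k : G) ∈ J := (SetLike.ext_iff.mp hJ _).mpr k.2
      rw [hconjK, this.2, hφε]
    have hres : resFun M θ = (m φ' : ℂ) • (φ' : M → ℂ) := by
      rw [← hcon]
      exact resFun_eq_smul_of_invariant hθ φ'.2 hcon0 hfix
    have hresL : resTo hLK.le θ = (m φ' : ℂ) • φ := funext fun x => by
      have := congrFun hres (ε.symm x)
      exact this
    have hXinv : ∀ (g : G) (k : K), θ ⟨g * k * g⁻¹, hK.conj_mem (k : G) k.2 g⟩ = θ k := fun g k =>
      congrFun (hinv g) k
    let W : Subgroup G := L ⊔ Subgroup.closure {x | ∃ hx : x ∈ K, θ ⟨x, hx⟩ ≠ 0}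
    have hWn : W.Normal := by
      have : (Subgroup.closure {x | ∃ hx : x ∈ K, θ ⟨x, hx⟩ ≠ 0}).Normal := by
        refine ⟨fun n hn g => ?_⟩
        refine (Subgroup.closure_le ((Subgroup.closure {x | ∃ hx : x ∈ K, θ ⟨x, hx⟩ ≠ 0}).comap
          (MulAut.conj g).toMonoidHom)).mpr ?_ hn
        rintro x ⟨hx, h⟩
        refine Subgroup.subset_closure ⟨hK.conj_mem x hx g, ?_⟩
        show θ ⟨g * x * g⁻¹, hK.conj_mem x hx g⟩ ≠ 0
        exact (hXinv g ⟨x, hx⟩).trans_ne h
      exact Subgroup.sup_normal _ _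
    rcases hchief W hWn le_sup_left (sup_le hLK.le ((Subgroup.closure_le _).mpr fun x hx => hx.1))
      with hW | hW
    · refine Or.inr (Or.inl ⟨φ, m φ', hφ, hresL, ?_⟩)
      refine sq_eq_index_of_vanishing hθ φ'.2 hres fun k hk => ?_
      by_contra h
      exact hk (Subgroup.mem_subgroupOf.mpr
        (hW ▸ Subgroup.mem_sup_right (Subgroup.subset_closure ⟨k.2, h⟩)))
    · refine Or.inl ?_
      have hKM : commutator K ≤ M := by
        intro x hx
        refine Subgroup.mem_subgroupOf.mpr (hab ?_)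
        rw [← K.map_subtype_commutator]
        exact ⟨x, hx, rfl⟩
      have he : m φ' = 1 := by
        refine restrict_irreducible_of_twists hKM hθ φ'.2 hφ' hres fun lam hlam => ?_
        have hker : W ≤ ((lam.comp (QuotientGroup.mk' M)).ker).map K.subtype := by
          refine sup_le (fun l hl => ?_) ((Subgroup.closure_le _).mpr ?_)
          · refine ⟨⟨l, hLK.le hl⟩, ?_, rfl⟩
            show lam ((⟨l, hLK.le hl⟩ : K) : K ⧸ M) = 1
            rw [(QuotientGroup.eq_one_iff (⟨l, hLK.le hl⟩ : K)).mpr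
              (Subgroup.mem_subgroupOf.mpr hl), map_one]
          · rintro x ⟨hx, h⟩
            refine ⟨⟨x, hx⟩, Units.ext ?_, rfl⟩
            exact mul_right_cancel₀ h ((hlam ⟨x, hx⟩).trans (one_mul _).symm)
        refine MonoidHom.ext fun q => ?_
        induction q using QuotientGroup.induction_on with | H k =>
        obtain ⟨k', hk', e⟩ := hker (hW.symm ▸ k.2 : (k : G) ∈ W)
        rw [← Subtype.ext (e : (k' : G) = k)]
        exact hk'
      rw [hresL, he, Nat.cast_one, one_smul]
      exact hφ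

end Cfsg.Agent.Lib.Clifford
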