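import Mathlib
import Cfsg.Agent.Lib.Chars.Induced
import Cfsg.Agent.Lib.Clifford.Correspondence

/-!
# Transitivity of induction for subgroups of subgroups
-/

set_option autoImplicit false

namespace Cfsg.Agent.Lib.Clifford

open Cfsg.Agent.Lib

variable {G : Type*} [Group G]

/-- The transport of a function on a subgroup of a subgroup. -/
noncomputable def liftFun {T : Subgroup G} (H : Subgroup T) (ψ : H → ℂ) : H.map T.subtype → ℂ :=
  fun x => ψ ((H.equivMapOfInjective T.subtype T.subtype_injective).symm x)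

theorem liftFun_apply {T : Subgroup G} (H : Subgroup T) (ψ : H → ℂ) (x : H)
    (hx : ((x : T) : G) ∈ H.map T.subtype) : liftFun H ψ ⟨((x : T) : G), hx⟩ = ψ x := by
  simp only [liftFun]
  congr 1
  rw [MulEquiv.symm_apply_eq]
  exact Subtype.ext rfl

theorem liftFun_one {T : Subgroup G} (H : Subgroup T) (ψ : H → ℂ) : liftFun H ψ 1 = ψ 1 := by
  simp [liftFun]

theorem isCharacter_liftFun {T : Subgroup G} (H : Subgroup T) {ψ : H → ℂ}
    (h : Cfsg.IsCharacter H ψ) : Cfsg.IsCharacter (H.map T.subtype) (liftFun H ψ) := by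
  obtain ⟨k, ρ, rfl⟩ := h
  exact ⟨k, ρ.comp (H.equivMapOfInjective T.subtype T.subtype_injective).symm.toMonoidHom, rfl⟩

theorem isIrrCharacter_liftFun [Finite G] {T : Subgroup G} (H : Subgroup T) {ψ : H → ℂ}
    (h : Cfsg.IsIrrCharacter H ψ) : Cfsg.IsIrrCharacter (H.map T.subtype) (liftFun H ψ) :=
  isIrrCharacter_comp_equiv _ h

theorem map_subtype_le' {T : Subgroup G} (H : Subgroup T) : H.map T.subtype ≤ T := by
  rintro _ ⟨x, -, rfl⟩; exact x.2

/-- Transitivity of induction. -/
theorem indFun_indFun [Fintype G] {T : Subgroup G} [Fintype T] (H : Subgroup T) (ψ : H → ℂ) :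
    Cfsg.indFun T (Cfsg.indFun H ψ) = Cfsg.indFun (H.map T.subtype) (liftFun H ψ) := by
  rw [← Chars.indFun_trans (H.map T.subtype) T (map_subtype_le' H)]
  congr 1
  funext t
  have hH : (H.map T.subtype).subgroupOf T = H := Subgroup.comap_map_eq_self_of_injective
    T.subtype_injective H
  have key : ∀ (H' : Subgroup T) (f : H' → ℂ), H' = H →
      (∀ (x : T) (h : x ∈ H') (h' : x ∈ H), f ⟨x, h⟩ = ψ ⟨x, h'⟩) →
      Cfsg.indFun H' f t = Cfsg.indFun H ψ t := by
    rintro H' f rfl hf
    congr 1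
    exact funext fun x => hf x x.2 x.2
  exact (key _ _ hH fun x h h' => liftFun_apply H ψ ⟨x, h'⟩ _).symm

end Cfsg.Agent.Lib.Clifford
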